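import Cfsg.Agent.Lib.SylowFix.Deficit

/-!
A Sylow `p`-subgroup of a transitive group generated by `p`-elements fixes at most `(p - 1)/(2p - 1)` of
the points.
-/

set_option autoImplicit false
set_option linter.unusedSectionVars false
set_option linter.style.haveILetI false

namespace Cfsg.Agent.Lib.SylowFix

open scoped Classical Pointwise
open Subgroup

universe u v

variable {p : ℕ} [Fact p.Prime]

/-- `G` is generated by its `p`-elements. -/
def PGenerated (p : ℕ) (G : Type*) [Group G] : Prop :=
  closure {g : G | ∃ k : ℕ, orderOf g = p ^ k} = ⊤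

/-- The bound for subgroups of index below `n`. -/
def Bound (p : ℕ) (n : ℕ) : Prop :=
  ∀ (G : Type u) [Group G] [Finite G], PGenerated p G → ∀ (P : Sylow p G) (H : Subgroup G), H ≠ ⊤ →
    H.index < n → (2 * p - 1) * Nat.card {v : G ⧸ H // Fixes P v} ≤ (p - 1) * H.index

section Action

variable {G : Type u} {Ω : Type v} [Group G] [Finite G] [MulAction G Ω]

theorem pGenerated_gen (T : Finset Ω) : PGenerated p (gen p G T) := by
  rw [PGenerated, eq_top_iff]
  intro x _
  have hle : gen p G T ≤
      (closure {g : gen p G T | ∃ k : ℕ, orderOf g = p ^ k}).map (gen p G T).subtype := by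
    refine iSup₂_le fun Q hQ y hy => ?_
    refine ⟨⟨y, le_gen hQ hy⟩, subset_closure ?_, rfl⟩
    obtain ⟨k, hk⟩ := IsPGroup.iff_orderOf.1 Q.2 ⟨y, hy⟩
    exact ⟨k, by rw [← hk, orderOf_mk, orderOf_mk]⟩
  obtain ⟨y, hy, hyx⟩ := hle x.2
  have : y = x := Subtype.ext hyx
  rwa [← this]

theorem card_fixes_eq [Fintype Ω] (P : Sylow p G) :
    Nat.card {v : Ω // Fixes P v} = fixIn P (Finset.univ : Finset Ω) := by
  rw [Nat.card_eq_fintype_card, Fintype.card_subtype, fixIn]

theorem fixIn_univ_smul [Fintype Ω] (g : G) (P : Sylow p G) :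
    fixIn (g • P) (Finset.univ : Finset Ω) = fixIn P (Finset.univ : Finset Ω) := by
  symm
  refine Finset.card_bij' (fun v _ => g • v) (fun v _ => g⁻¹ • v) ?_ ?_ ?_ ?_
  · intro v hv
    simp only [Finset.mem_filter, Finset.mem_univ, true_and] at hv ⊢
    exact fixes_smul.2 hv
  · intro v hv
    simp only [Finset.mem_filter, Finset.mem_univ, true_and] at hv ⊢
    exact fixes_smul.1 (by rwa [smul_inv_smul])
  · exact fun v _ => inv_smul_smul g v
  · exact fun v _ => smul_inv_smul g v

theorem fixIn_univ_eq [Fintype Ω] (P Q : Sylow p G) :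
    fixIn P (Finset.univ : Finset Ω) = fixIn Q (Finset.univ : Finset Ω) := by
  obtain ⟨g, rfl⟩ := Sylow.isPretransitive_of_finite.exists_smul_eq P Q
  exact (fixIn_univ_smul g P).symm

/-- The bound on an invariant set of moved points. -/
theorem bound_of_invariant [Finite Ω] {n : ℕ} (hn : Bound.{u} p n) (T : Finset Ω) :
    ∀ Y : Finset Ω, Invariant (gen p G T) Y → Moved p G T Y → Y.card < n → ∀ P ∈ syl p G T,
      (2 * p - 1) * fixIn P Y ≤ (p - 1) * Y.card := by
  intro Y
  induction Y using Finset.strongInduction with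
  | _ Y ih =>
    intro hY hmoved hlt P hP
    rcases Y.eq_empty_or_nonempty with rfl | ⟨y, hy⟩
    · simp [fixIn]
    set M := gen p G T with hM
    set O := Y.filter (fun w => w ∈ MulAction.orbit M y) with hO
    have horb : ∀ w ∈ MulAction.orbit M y, w ∈ Y := by
      rintro _ ⟨g, rfl⟩
      exact hY g g.2 y hy
    have hOinv : Invariant M O := by
      intro g hg w hw
      rw [hO, Finset.mem_filter] at hw ⊢
      refine ⟨hY g hg w hw.1, ?_⟩
      obtain ⟨h, rfl⟩ := hw.2
      exact ⟨⟨g, hg⟩ * h, mul_smul _ _ _⟩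
    have hOY : O ⊆ Y := Finset.filter_subset _ _
    have hyO : y ∈ O := Finset.mem_filter.2 ⟨hy, MulAction.mem_orbit_self y⟩
    have hdisj : Disjoint O (Y \ O) := Finset.disjoint_sdiff
    have hYeq : Y = O ∪ (Y \ O) := (Finset.union_sdiff_of_subset hOY).symm
    have hR := ih (Y \ O) (Finset.sdiff_ssubset hOY ⟨y, hyO⟩) (hY.sdiff hOinv)
      (fun w hw => hmoved w (Finset.sdiff_subset hw))
      (lt_of_le_of_lt (Finset.card_le_card Finset.sdiff_subset) hlt) P hP
    have hPM : (P : Subgroup G) ≤ M := le_gen hP
    set H := MulAction.stabilizer M y with hH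
    have hidx : H.index = O.card := by
      rw [hH, MulAction.index_stabilizer]
      rw [show MulAction.orbit M y = (O : Set Ω) from Set.ext fun w =>
        ⟨fun hw => Finset.mem_filter.2 ⟨horb w hw, hw⟩, fun hw => (Finset.mem_filter.1 hw).2⟩,
        Set.ncard_coe_finset]
    have hHtop : H ≠ ⊤ := by
      intro e
      refine hmoved y hy fun Q hQ g hg => ?_
      have h : (⟨g, le_gen hQ hg⟩ : M) ∈ H := by rw [e]; exact mem_top _
      exact h
    have hb := hn M (pGenerated_gen T) (P.subtype hPM) H hHtop
      (hidx ▸ lt_of_le_of_lt (Finset.card_le_card hOY) hlt)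
    have hfix : Nat.card {v : M ⧸ H // Fixes (P.subtype hPM) v} = fixIn P O := by
      rw [fixIn, ← Nat.card_eq_finsetCard]
      refine Nat.card_congr ((Equiv.subtypeEquiv (MulAction.orbitEquivQuotientStabilizer M y).symm
        (q := fun w : MulAction.orbit M y => Fixes P (w : Ω)) fun v => ?_).trans ?_)
      · induction v using QuotientGroup.induction_on with
        | _ m =>
          constructor
          · intro h g hg
            have h1 := h ⟨g, hPM hg⟩ (mem_subgroupOf.2 hg)
            have h2 := congrArg (fun q => ((MulAction.orbitEquivQuotientStabilizer M y).symm q : Ω)) h1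
            simp only [MulAction.Quotient.smul_mk,
              MulAction.orbitEquivQuotientStabilizer_symm_apply] at h2
            rw [smul_eq_mul, mul_smul] at h2
            show g • ((MulAction.orbitEquivQuotientStabilizer M y).symm (m : M ⧸ H) : Ω) = _
            rw [MulAction.orbitEquivQuotientStabilizer_symm_apply]
            exact h2
          · intro h g hg
            apply (MulAction.orbitEquivQuotientStabilizer M y).symm.injective
            apply Subtype.ext
            have h1 := h g (mem_subgroupOf.1 hg)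
            rw [MulAction.orbitEquivQuotientStabilizer_symm_apply] at h1
            rw [MulAction.Quotient.smul_mk, MulAction.orbitEquivQuotientStabilizer_symm_apply,
              MulAction.orbitEquivQuotientStabilizer_symm_apply, smul_eq_mul, mul_smul]
            exact h1
      · exact
          { toFun := fun w => ⟨w.1.1, Finset.mem_filter.2
              ⟨Finset.mem_filter.2 ⟨horb _ w.1.2, w.1.2⟩, w.2⟩⟩
            invFun := fun w => ⟨⟨w.1, (Finset.mem_filter.1 (Finset.mem_filter.1 w.2).1).2⟩,
              (Finset.mem_filter.1 w.2).2⟩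
            left_inv := fun w => rfl
            right_inv := fun w => rfl }
    rw [hfix, hidx] at hb
    rw [hYeq, fixIn_union hdisj, Finset.card_union_of_disjoint hdisj]
    nlinarith

end Action

theorem bound_step {n : ℕ} (hn : Bound.{u} p n) {G : Type u} [Group G] [Finite G]
    (hgen : PGenerated p G) (P : Sylow p G) (H : Subgroup G) (hH : IsCoatom H) (hidx : H.index = n) :
    (2 * p - 1) * Nat.card {v : G ⧸ H // Fixes P v} ≤ (p - 1) * H.index := by
  have hp : p.Prime := Fact.out
  haveI : Fintype (G ⧸ H) := Fintype.ofFinite _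
  set Ω := G ⧸ H
  letI : DecidableEq Ω := fun a b => Classical.propDecidable (a = b)
  have hcardΩ : Fintype.card Ω = n := by rw [← hidx, index_eq_card, Nat.card_eq_fintype_card]
  rw [card_fixes_eq, hidx]
  by_contra hcon
  push Not at hcon
  obtain ⟨a₀, ha₀⟩ : ∃ a : Ω, Fixes P a := by
    by_contra! h
    rw [fixIn, Finset.filter_false_of_mem fun v _ => h v] at hcon
    simp at hcon
  -- every point is fixed by some Sylow subgroup
  have hne : ∀ a : Ω, (syl p G ({a} : Finset Ω)).Nonempty := fun a => by
    obtain ⟨g, rfl⟩ := MulAction.exists_smul_eq G a₀ a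
    exact ⟨g • P, mem_syl.2 fun w hw => by rw [Finset.mem_singleton.1 hw]; exact fixes_smul.2 ha₀⟩
  -- only `a` is fixed by all those subgroups
  have honly : ∀ a b : Ω, (∀ Q ∈ syl p G ({a} : Finset Ω), Fixes Q b) → b = a := by
    intro a b hb
    by_contra hab
    obtain ⟨g, rfl⟩ := MulAction.exists_smul_eq G a b
    set S := syl p G ({a} : Finset Ω) with hS
    have hsub : S ⊆ syl p G ({g • a} : Finset Ω) := fun Q hQ =>
      mem_syl.2 fun w hw => by rw [Finset.mem_singleton.1 hw]; exact hb Q hQ
    have himg : syl p G ({g • a} : Finset Ω) = S.image fun Q => g • Q := by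
      have := syl_insert_smul (p := p) (T := (∅ : Finset Ω)) (g := g) (fun v hv => absurd hv (by simp)) a
      simpa using this
    have hgS : S.image (fun Q => g • Q) = S := by
      rw [← himg]
      exact (Finset.eq_of_subset_of_card_le hsub
        (by rw [himg]; exact Finset.card_image_le)).symm
    -- `K` permutes the Sylow subgroups fixing `a`
    let K : Subgroup G := MulAction.stabilizer G (S : Set (Sylow p G))
    have hgK : g ∈ K := by
      show g • (S : Set (Sylow p G)) = S
      conv_rhs => rw [← hgS]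
      simp [Finset.coe_image, Set.image_smul]
    have haK : MulAction.stabilizer G a ≤ K := by
      intro x hx
      show x • (S : Set (Sylow p G)) = S
      have hxT : ∀ w ∈ ({a} : Finset Ω), x • w = w := fun w hw => by
        rw [Finset.mem_singleton.1 hw]; exact hx
      ext Q
      rw [Set.mem_smul_set_iff_inv_smul_mem, Finset.mem_coe, Finset.mem_coe]
      constructor
      · intro hQ
        simpa using smul_mem_syl hxT hQ
      · intro hQ
        exact smul_mem_syl (fun w hw => inv_smul_eq_iff.2 (hxT w hw).symm) hQ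
    have hco : IsCoatom (MulAction.stabilizer G a) := by
      obtain ⟨k, hk⟩ := MulAction.exists_smul_eq G ((1 : G) : Ω) a
      rw [← hk, MulAction.stabilizer_smul_eq_stabilizer_map_conj, MulAction.stabilizer_quotient]
      exact (OrderIso.isCoatom_iff (MulEquiv.mapSubgroup (MulAut.conj k)) H).2 hH
    have hKtop : K = ⊤ := by
      by_contra hK
      rcases eq_or_lt_of_le haK with e | e
      · exact hab (show g • a = a from (e ▸ hgK : g ∈ MulAction.stabilizer G a))
      · exact hK (hco.2 K e)
    obtain ⟨Q, hQ⟩ := hne a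
    have hall : ∀ R : Sylow p G, Fixes R a := by
      intro R
      obtain ⟨k, rfl⟩ := Sylow.isPretransitive_of_finite.exists_smul_eq Q R
      have hk : k • (S : Set (Sylow p G)) = S := (hKtop ▸ mem_top k : k ∈ K)
      have h1 : k • Q ∈ k • (S : Set (Sylow p G)) := Set.smul_mem_smul_set (Finset.mem_coe.2 hQ)
      rw [hk, Finset.mem_coe] at h1
      exact mem_syl.1 h1 a (Finset.mem_singleton_self a)
    have htop : MulAction.stabilizer G a = ⊤ := by
      rw [eq_top_iff, ← hgen, closure_le]
      rintro x ⟨k, hk⟩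
      obtain ⟨R, hR⟩ := (IsPGroup.of_card (p := p) (n := k)
        (by rw [Nat.card_zpowers, hk]) : IsPGroup p (zpowers x)).exists_le_sylow
      exact hall R x (hR (mem_zpowers x))
    exact hco.1 htop
  -- the bounds below a point
  have hsubB : ∀ a : Ω, SubBound G p a := by
    intro a T haT Y hY hmoved Q hQ
    refine bound_of_invariant hn T Y hY hmoved ?_ Q hQ
    rw [← hcardΩ]
    exact Finset.card_lt_univ_of_notMem (x := a) fun h => hmoved a h fun R hR => mem_syl.1 hR a haT
  have hrest : ∀ a : Ω, Invariant (gen p G ({a} : Finset Ω)) (Finset.univ.erase a) ∧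
      Moved p G ({a} : Finset Ω) (Finset.univ.erase a) := fun a => by
    refine ⟨fun g hg v hv => Finset.mem_erase.2 ⟨fun e => (Finset.mem_erase.1 hv).1 ?_,
      Finset.mem_univ _⟩, fun v hv h => (Finset.mem_erase.1 hv).1 (honly a v h)⟩
    rw [← inv_smul_smul g v, e]
    exact gen_fix (inv_mem hg) a (Finset.mem_singleton_self a)
  have hsplit : ∀ a : Ω, ∀ Q ∈ syl p G ({a} : Finset Ω),
      fixIn Q (Finset.univ : Finset Ω) = 1 + fixIn Q (Finset.univ.erase a) := by
    intro a Q hQ
    have hu : (Finset.univ : Finset Ω) = {a} ∪ Finset.univ.erase a := by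
      rw [Finset.singleton_union, Finset.insert_erase (Finset.mem_univ a)]
    conv_lhs => rw [hu, fixIn_union (Finset.disjoint_singleton_left.2 (Finset.notMem_erase a _))]
    rw [fixIn, Finset.filter_singleton, if_pos (mem_syl.1 hQ a (Finset.mem_singleton_self a)),
      Finset.card_singleton]
  set f := fixIn P (Finset.univ : Finset Ω) with hf
  have hn1 : 1 ≤ n := by rw [← hcardΩ]; exact Fintype.card_pos_iff.2 ⟨a₀⟩
  have hup : (2 * p - 1) * f ≤ (p - 1) * n + p := by
    have hP₀ : P ∈ syl p G ({a₀} : Finset Ω) :=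
      mem_syl.2 fun w hw => by rw [Finset.mem_singleton.1 hw]; exact ha₀
    have h1 := hsubB a₀ {a₀} (Finset.mem_singleton_self a₀) _ (hrest a₀).1 (hrest a₀).2 P hP₀
    rw [Finset.card_erase_of_mem (Finset.mem_univ a₀), Finset.card_univ, hcardΩ] at h1
    rw [hf, hsplit a₀ P hP₀]
    obtain ⟨m, rfl⟩ := Nat.exists_eq_add_of_le hn1
    have h2 : 2 * p - 1 = (p - 1) + p := by have := hp.two_le; omega
    rw [h2] at h1 ⊢
    rw [Nat.add_sub_cancel_left] at h1
    nlinarith
  -- equality holds below every point
  have heq : (2 * p - 1) * f = (p - 1) * n + p := by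
    have hmod : Nat.card Ω ≡ f [MOD p] := by
      refine (P.2.card_modEq_card_fixedPoints Ω).trans ?_
      rw [hf, ← card_fixes_eq]
      refine (congrArg (· % p) (Nat.card_congr (Equiv.subtypeEquivRight fun v => ?_))).trans rfl
      exact ⟨fun h g hg => h ⟨g, hg⟩, fun h g => h g g.2⟩
    rw [Nat.card_eq_fintype_card, hcardΩ] at hmod
    have hfn : f ≤ n := hcardΩ ▸ Finset.card_le_univ _
    obtain ⟨k, hk⟩ := (Nat.modEq_iff_dvd' hfn).1 hmod.symm
    obtain ⟨q, hq⟩ := Nat.exists_eq_add_of_le hp.one_le
    have hnk : n = f + p * k := by omega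
    have h2 : 2 * p - 1 = (p - 1) + p := by omega
    rw [h2] at hcon hup ⊢
    rw [hnk] at hcon hup ⊢
    have h3 : (p - 1) * k < f := by
      by_contra hle
      push Not at hle
      nlinarith [Nat.mul_le_mul_left p hle]
    nlinarith [Nat.mul_le_mul_left p h3]
  have htight : ∀ a : Ω, Tight G p a := by
    intro a Y hY hmoved Q hQ
    set E := Finset.univ.erase a with hE
    have hYE : Y ⊆ E := fun v hv => Finset.mem_erase.2
      ⟨fun e => hmoved v hv fun R hR => mem_syl.1 hR v (e ▸ Finset.mem_singleton_self a),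
        Finset.mem_univ _⟩
    have hR := hsubB a {a} (Finset.mem_singleton_self a) (E \ Y) ((hrest a).1.sdiff hY)
      (fun v hv => (hrest a).2 v (Finset.sdiff_subset hv)) Q hQ
    have hfa : f = 1 + (fixIn Q Y + fixIn Q (E \ Y)) := by
      rw [← fixIn_union Finset.disjoint_sdiff, Finset.union_sdiff_of_subset hYE, hE, ← hsplit a Q hQ,
        hf]
      exact fixIn_univ_eq P Q
    have hnY : n = 1 + (Y.card + (E \ Y).card) := by
      rw [← Finset.card_union_of_disjoint Finset.disjoint_sdiff, Finset.union_sdiff_of_subset hYE, hE,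
        Finset.card_erase_of_mem (Finset.mem_univ a), Finset.card_univ, hcardΩ]
      omega
    have h2 : 2 * p - 1 = (p - 1) + p := by have := hp.two_le; omega
    rw [hfa, hnY, h2] at heq
    rw [h2] at hR ⊢
    nlinarith
  -- an element of order `p` moving a point
  obtain ⟨g, hg, c, hgc⟩ : ∃ g ∈ (P : Subgroup G), ∃ c : Ω, g • c ≠ c := by
    by_contra! h
    have hall : ∀ b, b = a₀ := fun b => honly a₀ b fun Q _ => by
      obtain ⟨k, rfl⟩ := Sylow.isPretransitive_of_finite.exists_smul_eq P Q
      rw [← smul_inv_smul k b]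
      exact fixes_smul.2 fun g hg => h g hg _
    haveI : Subsingleton Ω := ⟨fun x y => (hall x).trans (hall y).symm⟩
    have : H.index = 1 := by
      rw [index_eq_card]
      exact Nat.card_eq_one_iff_unique.2 ⟨inferInstance, ⟨a₀⟩⟩
    exact hH.1 (index_eq_one.1 this)
  obtain ⟨k, hk⟩ := IsPGroup.iff_orderOf.1 P.2 ⟨g, hg⟩
  rw [orderOf_mk] at hk
  have hex : ∃ j : ℕ, ∀ v : Ω, g ^ p ^ j • v = v :=
    ⟨k, fun v => by rw [← hk, pow_orderOf_eq_one, one_smul]⟩
  have hj0 : Nat.find hex ≠ 0 := fun e => hgc (by
    have := Nat.find_spec hex c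
    rwa [e, pow_zero, pow_one] at this)
  obtain ⟨j, hj⟩ := Nat.exists_eq_succ_of_ne_zero hj0
  have hxp : ∀ v : Ω, (g ^ p ^ j) ^ p • v = v := fun v => by
    rw [← pow_mul, ← pow_succ]
    have := Nat.find_spec hex v
    rwa [hj] at this
  have hmove := Nat.find_min hex (show j < Nat.find hex by omega)
  push Not at hmove
  obtain ⟨c', hc'⟩ := hmove
  exact hc' (not_tight hsubB htight hne hxp)

theorem bound_all : ∀ n : ℕ, Bound.{u} p n := by
  have hp : p.Prime := Fact.out
  intro n
  induction n with
  | zero => intro G _ _ _ P H _ hlt; omega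
  | succ n ih =>
    intro G _ _ hgen P H hH hlt
    rcases (Nat.lt_succ_iff.1 hlt).lt_or_eq with h | h
    · exact ih G hgen P H hH h
    by_cases hco : IsCoatom H
    · exact bound_step ih hgen P H hco h
    obtain ⟨K, hHK, hK⟩ : ∃ K, H < K ∧ K ≠ ⊤ := by
      by_contra! hc
      exact hco ⟨hH, hc⟩
    have hmul : H.relIndex K * K.index = H.index := relIndex_mul_index hHK.le
    have hKlt : K.index < n := by
      have h1 : 1 < H.relIndex K := by
        rcases Nat.lt_or_ge 1 (H.relIndex K) with h1 | h1
        · exact h1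
        · exfalso
          have h2 : H.relIndex K ≠ 0 := fun e => by
            rw [e, zero_mul] at hmul
            exact index_ne_zero_of_finite hmul.symm
          exact not_le_of_gt hHK (relIndex_eq_one.1 (by omega))
      have h3 : 0 < K.index := Nat.pos_of_ne_zero index_ne_zero_of_finite
      rw [← h, ← hmul]
      nlinarith
    have hb := ih G hgen P K hK hKlt
    set e := quotientEquivProdOfLE (s := H) (t := K) hHK.le with he
    have hfst : ∀ (g : G) (v : G ⧸ H), (e (g • v)).1 = g • (e v).1 := by
      intro g v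
      induction v using QuotientGroup.induction_on with
      | _ x => rfl
    have hle : Nat.card {v : G ⧸ H // Fixes P v} ≤
        Nat.card ({w : G ⧸ K // Fixes P w} × (K ⧸ H.subgroupOf K)) := by
      refine Nat.card_le_card_of_injective
        (fun v => (⟨(e v.1).1, fun g hg => by rw [← hfst, v.2 g hg]⟩, (e v.1).2)) fun v w h => ?_
      apply Subtype.ext
      apply e.injective
      have h1 := congrArg (fun t => t.1.1) h
      have h2 := congrArg Prod.snd h
      exact Prod.ext h1 h2
    rw [Nat.card_prod] at hle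
    calc (2 * p - 1) * Nat.card {v : G ⧸ H // Fixes P v}
        ≤ (2 * p - 1) * (Nat.card {w : G ⧸ K // Fixes P w} * H.relIndex K) :=
          Nat.mul_le_mul_left _ hle
      _ = (2 * p - 1) * Nat.card {w : G ⧸ K // Fixes P w} * H.relIndex K := by rw [mul_assoc]
      _ ≤ (p - 1) * K.index * H.relIndex K := Nat.mul_le_mul_right _ hb
      _ = (p - 1) * H.index := by rw [mul_assoc, mul_comm K.index, hmul]

/-- The fixed point bound on any invariant set of moved points. -/
theorem fixIn_le {G : Type u} {Ω : Type v} [Group G] [Finite G] [MulAction G Ω] [Finite Ω]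
    (T Y : Finset Ω) (hY : Invariant (gen p G T) Y) (hmoved : Moved p G T Y) {P : Sylow p G}
    (hP : P ∈ syl p G T) : (2 * p - 1) * fixIn P Y ≤ (p - 1) * Y.card :=
  bound_of_invariant (bound_all (Y.card + 1)) T Y hY hmoved (Nat.lt_succ_self _) P hP

end Cfsg.Agent.Lib.SylowFix
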