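import Mathlib

/-!
Sylow subgroups fixing given points. If the fixed point ratio bound `(p - 1)/(2p - 1)` holds on every
invariant set of moved points below a point `a` and is attained on all of them for the stabiliser of `a`,
then any `p` points have a common fixing Sylow subgroup, which no orbit of an element of order `p` allows.
-/

set_option autoImplicit false
set_option linter.unusedSectionVars false
set_option linter.style.haveILetI false

namespace Cfsg.Agent.Lib.SylowFix

open scoped Classical Pointwise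

variable {G Ω : Type*} [Group G] [Finite G] [MulAction G Ω] {p : ℕ} [Fact p.Prime]

/-- The Sylow subgroup fixes the point. -/
def Fixes (P : Sylow p G) (v : Ω) : Prop := ∀ g ∈ (P : Subgroup G), g • v = v

/-- The Sylow subgroups fixing every point of `T`. -/
noncomputable def syl (p : ℕ) (G : Type*) [Group G] [Finite G] {Ω : Type*} [MulAction G Ω]
    (T : Finset Ω) : Finset (Sylow p G) :=
  (Set.toFinite {Q : Sylow p G | ∀ v ∈ T, Fixes Q v}).toFinset

theorem mem_syl {T : Finset Ω} {Q : Sylow p G} : Q ∈ syl p G T ↔ ∀ v ∈ T, Fixes Q v := by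
  simp [syl]

theorem syl_anti {T T' : Finset Ω} (h : T ⊆ T') : syl p G T' ⊆ syl p G T :=
  fun _ hQ => mem_syl.2 fun v hv => mem_syl.1 hQ v (h hv)

theorem mem_syl_insert {T : Finset Ω} {v : Ω} {Q : Sylow p G} :
    Q ∈ syl p G (insert v T) ↔ Q ∈ syl p G T ∧ Fixes Q v := by
  simp only [mem_syl, Finset.forall_mem_insert, and_comm]

theorem syl_insert (T : Finset Ω) (v : Ω) :
    syl p G (insert v T) = (syl p G T).filter fun Q => Fixes Q v := by
  ext Q
  rw [mem_syl_insert, Finset.mem_filter]

/-- The group generated by the Sylow subgroups fixing `T`. -/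
noncomputable def gen (p : ℕ) (G : Type*) [Group G] [Finite G] {Ω : Type*} [MulAction G Ω]
    (T : Finset Ω) : Subgroup G :=
  ⨆ Q ∈ syl p G T, (Q : Subgroup G)

theorem le_gen {T : Finset Ω} {Q : Sylow p G} (hQ : Q ∈ syl p G T) : (Q : Subgroup G) ≤ gen p G T :=
  le_iSup₂ (f := fun Q (_ : Q ∈ syl p G T) => (Q : Subgroup G)) Q hQ

theorem gen_anti {T T' : Finset Ω} (h : T ⊆ T') : gen p G T' ≤ gen p G T :=
  iSup₂_le fun _ hQ => le_gen (syl_anti h hQ)

/-- A point fixed by all those Sylow subgroups is fixed by the group they generate. -/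
theorem smul_eq_of_gen {T : Finset Ω} {v : Ω} (hv : ∀ Q ∈ syl p G T, Fixes Q v) :
    ∀ g ∈ gen p G T, g • v = v := by
  intro g hg
  have h : gen p G T ≤ MulAction.stabilizer G v := iSup₂_le fun Q hQ x hx => hv Q hQ x hx
  exact h hg

theorem gen_fix {T : Finset Ω} {g : G} (hg : g ∈ gen p G T) : ∀ v ∈ T, g • v = v :=
  fun _ hv => smul_eq_of_gen (fun _ hQ => mem_syl.1 hQ _ hv) g hg

theorem fixes_smul {g : G} {Q : Sylow p G} {v : Ω} : Fixes (g • Q) (g • v) ↔ Fixes Q v := by
  constructor
  · intro h x hx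
    have h1 := h (g * x * g⁻¹) (Subgroup.smul_mem_pointwise_smul x (MulAut.conj g) _ hx)
    rw [smul_smul, inv_mul_cancel_right, mul_smul] at h1
    exact smul_left_cancel g h1
  · intro h x hx
    obtain ⟨y, hy, rfl⟩ := hx
    show (g * y * g⁻¹) • g • v = g • v
    rw [smul_smul, inv_mul_cancel_right, mul_smul, h y hy]

theorem syl_insert_smul {T : Finset Ω} {g : G} (hg : ∀ v ∈ T, g • v = v) (v : Ω) :
    syl p G (insert (g • v) T) = (syl p G (insert v T)).image fun Q => g • Q := by
  ext Q
  rw [Finset.mem_image]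
  constructor
  · intro hQ
    refine ⟨g⁻¹ • Q, mem_syl.2 fun w hw => ?_, smul_inv_smul g Q⟩
    rw [← fixes_smul (g := g), smul_inv_smul]
    rcases Finset.mem_insert.1 hw with rfl | hw
    · exact mem_syl.1 hQ _ (Finset.mem_insert_self _ _)
    · rw [hg w hw]; exact mem_syl.1 hQ _ (Finset.mem_insert_of_mem hw)
  · rintro ⟨R, hR, rfl⟩
    refine mem_syl.2 fun w hw => ?_
    rcases Finset.mem_insert.1 hw with rfl | hw
    · exact fixes_smul.2 (mem_syl.1 hR _ (Finset.mem_insert_self _ _))
    · rw [← hg w hw]; exact fixes_smul.2 (mem_syl.1 hR _ (Finset.mem_insert_of_mem hw))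

theorem smul_mem_syl {T : Finset Ω} {g : G} (hg : ∀ v ∈ T, g • v = v) {Q : Sylow p G}
    (hQ : Q ∈ syl p G T) : g • Q ∈ syl p G T :=
  mem_syl.2 fun w hw => by rw [← hg w hw]; exact fixes_smul.2 (mem_syl.1 hQ w hw)

/-- Invariance of a set of points. -/
def Invariant (M : Subgroup G) (Y : Finset Ω) : Prop := ∀ g ∈ M, ∀ v ∈ Y, g • v ∈ Y

/-- Every point is moved by one of the Sylow subgroups fixing `T`. -/
def Moved (p : ℕ) (G : Type*) [Group G] [Finite G] {Ω : Type*} [MulAction G Ω]
    (T Y : Finset Ω) : Prop :=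
  ∀ v ∈ Y, ¬ ∀ Q ∈ syl p G T, Fixes Q v

theorem Invariant.sdiff {M : Subgroup G} {Y Y' : Finset Ω} (h : Invariant M Y)
    (h' : Invariant M Y') : Invariant M (Y \ Y') := by
  intro g hg v hv
  rw [Finset.mem_sdiff] at hv ⊢
  refine ⟨h g hg v hv.1, fun hc => hv.2 ?_⟩
  simpa using h' g⁻¹ (inv_mem hg) _ hc

/-- The number of fixed points inside `Y`. -/
noncomputable def fixIn (P : Sylow p G) (Y : Finset Ω) : ℕ := (Y.filter fun v => Fixes P v).card

theorem fixIn_union {P : Sylow p G} {A B : Finset Ω} (h : Disjoint A B) :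
    fixIn P (A ∪ B) = fixIn P A + fixIn P B := by
  rw [fixIn, Finset.filter_union, Finset.card_union_of_disjoint]
  · rfl
  · exact Finset.disjoint_filter_filter h

/-- The points of `Y` with the same fixing Sylow subgroups as `v`, relative to `T`. -/
noncomputable def cls (p : ℕ) (G : Type*) [Group G] [Finite G] {Ω : Type*} [MulAction G Ω]
    (T Y : Finset Ω) (v : Ω) : Finset Ω :=
  Y.filter fun w => syl p G (insert w T) = syl p G (insert v T)

/-- The saturation of a class. -/
noncomputable def sat (M : Subgroup G) (C U : Finset Ω) : Finset Ω :=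
  U.filter fun v => ∃ g ∈ M, ∃ c ∈ C, g • c = v

theorem sat_spec {T U : Finset Ω} {u : Ω} {M : Subgroup G} (hM : ∀ g ∈ M, ∀ v ∈ T, g • v = v)
    (hU : Invariant M U) (hu : u ∈ U) :
    u ∈ sat M (cls p G T U u) U ∧ Invariant M (sat M (cls p G T U u) U) ∧
      ∀ v ∈ sat M (cls p G T U u) U, ∃ g ∈ M,
        syl p G (insert v T) = (syl p G (insert u T)).image (fun Q => g • Q) ∧
        (cls p G T (sat M (cls p G T U u) U) v).card = (cls p G T U u).card := by
  set C := cls p G T U u with hC
  have huC : u ∈ C := Finset.mem_filter.2 ⟨hu, rfl⟩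
  have hinv : Invariant M (sat M C U) := by
    intro g hg v hv
    obtain ⟨hvU, h, hh, c, hc, rfl⟩ := Finset.mem_filter.1 hv
    exact Finset.mem_filter.2 ⟨hU g hg _ hvU, g * h, mul_mem hg hh, c, hc, mul_smul g h c⟩
  refine ⟨Finset.mem_filter.2 ⟨hu, 1, one_mem _, u, huC, one_smul G u⟩, hinv, ?_⟩
  intro v hv
  obtain ⟨hvU, g, hg, c, hc, rfl⟩ := Finset.mem_filter.1 hv
  have hcs : syl p G (insert c T) = syl p G (insert u T) := (Finset.mem_filter.1 hc).2
  have hgs : syl p G (insert (g • c) T) = (syl p G (insert u T)).image (fun Q => g • Q) := by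
    rw [syl_insert_smul (hM g hg), hcs]
  refine ⟨g, hg, hgs, ?_⟩
  have hinj : Function.Injective fun Q : Sylow p G => g • Q := MulAction.injective g
  have himg : cls p G T (sat M C U) (g • c) = C.image fun w => g • w := by
    ext w
    rw [Finset.mem_image]
    constructor
    · intro hw
      obtain ⟨hwY, hws⟩ := Finset.mem_filter.1 hw
      refine ⟨g⁻¹ • w, Finset.mem_filter.2 ⟨hU g⁻¹ (inv_mem hg) w (Finset.mem_filter.1 hwY).1, ?_⟩,
        smul_inv_smul g w⟩
      apply Finset.image_injective hinj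
      beta_reduce
      rw [← syl_insert_smul (hM g hg), smul_inv_smul, hws, hgs]
    · rintro ⟨d, hd, rfl⟩
      obtain ⟨hdU, hds⟩ := Finset.mem_filter.1 hd
      refine Finset.mem_filter.2 ⟨Finset.mem_filter.2 ⟨hU g hg d hdU, g, hg, d, hd, rfl⟩, ?_⟩
      rw [syl_insert_smul (hM g hg), hds, hgs]
  rw [himg, Finset.card_image_of_injective _ (MulAction.injective g)]

variable (p G) in
/-- The fixed point bound on invariant sets of moved points below `a`. -/
def SubBound (a : Ω) : Prop :=
  ∀ T : Finset Ω, a ∈ T → ∀ Y : Finset Ω, Invariant (gen p G T) Y → Moved p G T Y →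
    ∀ P ∈ syl p G T, (2 * p - 1) * fixIn P Y ≤ (p - 1) * Y.card

variable (p G) in
/-- The bound is attained below `a`. -/
def Tight (a : Ω) : Prop :=
  ∀ Y : Finset Ω, Invariant (gen p G {a}) Y → Moved p G {a} Y →
    ∀ P ∈ syl p G ({a} : Finset Ω), (p - 1) * Y.card ≤ (2 * p - 1) * fixIn P Y

variable (p G) in
/-- What is known about `u` after `i` points. -/
def Data (T : Finset Ω) (i : ℕ) (u : Ω) : Prop :=
  (syl p G (insert u T)).Nonempty ∧ ((∀ Q ∈ syl p G T, Fixes Q u) ∨
    ∃ (Y : Finset Ω) (b : ℕ), u ∈ Y ∧ Invariant (gen p G T) Y ∧ Moved p G T Y ∧ 0 < b ∧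
      (∀ v ∈ Y, (cls p G T Y v).card = b) ∧
      (∀ v ∈ Y, (syl p G (insert v T)).card = (syl p G (insert u T)).card) ∧
      ∀ P ∈ syl p G T, (p - 1) * Y.card ≤ (2 * p - 1) * fixIn P Y + p * i * b)

variable [Fintype Ω]

theorem data_base {a : Ω} (htight : Tight G p a) (ha : (syl p G ({a} : Finset Ω)).Nonempty) (u : Ω) :
    Data G p {a} 0 u := by
  have hp : p.Prime := Fact.out
  by_cases hfix : ∀ Q ∈ syl p G ({a} : Finset Ω), Fixes Q u
  · obtain ⟨Q, hQ⟩ := ha
    exact ⟨⟨Q, mem_syl_insert.2 ⟨hQ, hfix Q hQ⟩⟩, Or.inl hfix⟩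
  set U := Finset.univ.filter fun v : Ω => ¬ ∀ Q ∈ syl p G ({a} : Finset Ω), Fixes Q v with hUdef
  have hUinv : Invariant (gen p G {a}) U := by
    intro g hg v hv
    rw [hUdef, Finset.mem_filter] at hv ⊢
    refine ⟨Finset.mem_univ _, fun h => hv.2 ?_⟩
    have h1 := smul_eq_of_gen h g⁻¹ (inv_mem hg)
    rw [inv_smul_smul] at h1
    intro Q hQ
    rw [h1]
    exact h Q hQ
  obtain ⟨huY, hY, hspec⟩ := sat_spec (p := p) (fun g hg => gen_fix hg) hUinv
    (show u ∈ U from Finset.mem_filter.2 ⟨Finset.mem_univ _, hfix⟩)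
  set Y := sat (gen p G {a}) (cls p G {a} U u) U
  have hmoved : Moved p G {a} Y := fun v hv =>
    (Finset.mem_filter.1 (Finset.mem_filter.1 hv).1).2
  have hne : (syl p G (insert u ({a} : Finset Ω))).Nonempty := by
    by_contra he
    rw [Finset.not_nonempty_iff_eq_empty] at he
    obtain ⟨P, hP⟩ := ha
    have h0 : fixIn P Y = 0 := by
      rw [fixIn, Finset.card_eq_zero, Finset.filter_eq_empty_iff]
      intro v hv hPv
      obtain ⟨g, -, hg, -⟩ := hspec v hv
      rw [he, Finset.image_empty] at hg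
      have h1 := mem_syl_insert.2 ⟨hP, hPv⟩
      simp [hg] at h1
    have h2 := htight Y hY hmoved P hP
    rw [h0, mul_zero, Nat.le_zero, mul_eq_zero] at h2
    have h3 : 0 < Y.card := Finset.card_pos.2 ⟨u, huY⟩
    have := hp.two_le
    omega
  refine ⟨hne, Or.inr ⟨Y, (cls p G {a} U u).card, huY, hY, hmoved, ?_, fun v hv => ?_, fun v hv => ?_,
    fun P hP => ?_⟩⟩
  · exact Finset.card_pos.2 ⟨u, Finset.mem_filter.2 ⟨(Finset.mem_filter.1 huY).1, rfl⟩⟩
  · obtain ⟨g, -, -, h⟩ := hspec v hv
    exact h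
  · obtain ⟨g, -, h, -⟩ := hspec v hv
    rw [h, Finset.card_image_of_injective _ (MulAction.injective g)]
  · simpa using htight Y hY hmoved P hP

theorem data_step {a : Ω} (hsub : SubBound G p a) {T : Finset Ω} (ha : a ∈ T) {i : ℕ} {s u : Ω}
    (hs : (syl p G (insert s T)).Nonempty)
    (hmax : (syl p G (insert u T)).card ≤ (syl p G (insert s T)).card) (hi : i + 2 ≤ p - 1)
    (hd : Data G p T i u) : Data G p (insert s T) (i + 1) u := by
  have hp : p.Prime := Fact.out
  have hsub' : T ⊆ insert s T := Finset.subset_insert _ _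
  set T' := insert s T with hT'
  by_cases hfix : ∀ Q ∈ syl p G T', Fixes Q u
  · obtain ⟨Q, hQ⟩ := hs
    exact ⟨⟨Q, mem_syl_insert.2 ⟨hQ, hfix Q hQ⟩⟩, Or.inl hfix⟩
  obtain ⟨hgood, hd⟩ := hd
  rcases hd with h | ⟨Y, b, huY, hY, hmoved, hb, hcls, hcnt, hbound⟩
  · exact absurd (fun Q hQ => h Q (syl_anti hsub' hQ)) hfix
  have hle : gen p G T' ≤ gen p G T := gen_anti hsub'
  have hY' : Invariant (gen p G T') Y := fun g hg => hY g (hle hg)
  set Z := Y.filter (fun v => ∀ Q ∈ syl p G T', Fixes Q v) with hZ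
  set U := Y \ Z with hUdef
  have hZinv : Invariant (gen p G T') Z := by
    intro g hg v hv
    rw [hZ, Finset.mem_filter] at hv ⊢
    rw [smul_eq_of_gen hv.2 g hg]
    exact hv
  have hUinv : Invariant (gen p G T') U := hY'.sdiff hZinv
  have hUmoved : ∀ A, A ⊆ U → Moved p G T' A := fun A hA v hv hfx => by
    have h1 := Finset.mem_sdiff.1 (hA hv)
    exact h1.2 (Finset.mem_filter.2 ⟨h1.1, hfx⟩)
  have huU : u ∈ U := Finset.mem_sdiff.2 ⟨huY, fun h => hfix (Finset.mem_filter.1 h).2⟩
  -- the fixed points form at most one class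
  have hZeq : ∀ v ∈ Z, syl p G (insert v T) = syl p G T' := fun v hv => by
    obtain ⟨hvY, hvfix⟩ := Finset.mem_filter.1 hv
    exact (Finset.eq_of_subset_of_card_le
      (fun Q hQ => mem_syl_insert.2 ⟨syl_anti hsub' hQ, hvfix Q hQ⟩)
      ((hcnt v hvY).le.trans hmax)).symm
  have hZb : Z.card ≤ b := by
    rcases Z.eq_empty_or_nonempty with hz | ⟨v, hv⟩
    · simp [hz]
    · rw [← hcls v (Finset.mem_filter.1 hv).1]
      exact Finset.card_le_card fun w hw =>
        Finset.mem_filter.2 ⟨(Finset.mem_filter.1 hw).1, (hZeq w hw).trans (hZeq v hv).symm⟩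
  -- the bound on an invariant subset
  have hsplit : ∀ A, A ⊆ U → Invariant (gen p G T') A → ∀ P ∈ syl p G T',
      (p - 1) * A.card ≤ (2 * p - 1) * fixIn P A + p * (i + 1) * b := by
    intro A hA hAinv P hP
    have hR := hsub T' (hsub' ha) (U \ A) (hUinv.sdiff hAinv) (hUmoved _ Finset.sdiff_subset) P hP
    have hdisj : Disjoint Z U := Finset.disjoint_sdiff
    have hYeq : Y = Z ∪ U := (Finset.union_sdiff_of_subset (Finset.filter_subset _ _)).symm
    have hUeq : U = A ∪ (U \ A) := (Finset.union_sdiff_of_subset hA).symm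
    have hdisj' : Disjoint A (U \ A) := Finset.disjoint_sdiff
    have hfZ : fixIn P Z = Z.card := by
      rw [fixIn, Finset.filter_true_of_mem fun v hv =>
        ((Finset.mem_filter (p := fun v => ∀ Q ∈ syl p G T', Fixes Q v)).1 hv).2 P hP]
    have h1 := hbound P (syl_anti hsub' hP)
    rw [hYeq, Finset.card_union_of_disjoint hdisj, fixIn_union hdisj, hfZ, hUeq,
      Finset.card_union_of_disjoint hdisj', fixIn_union hdisj'] at h1
    have h2 : 2 * p - 1 = (p - 1) + p := by have := hp.two_le; omega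
    have h3 : p * Z.card ≤ p * b := Nat.mul_le_mul_left p hZb
    rw [h2] at h1 hR ⊢
    rw [mul_add p i 1, mul_one]
    nlinarith
  have hcU : cls p G T Y u ⊆ cls p G T U u := by
    intro w hw
    obtain ⟨hwY, hws⟩ := Finset.mem_filter.1 hw
    refine Finset.mem_filter.2 ⟨Finset.mem_sdiff.2 ⟨hwY, fun hwZ => hfix fun Q hQ => ?_⟩, hws⟩
    rw [← hZeq w hwZ, hws] at hQ
    exact (mem_syl_insert.1 hQ).2
  have hne : (syl p G (insert u T')).Nonempty := by
    by_contra he
    rw [Finset.not_nonempty_iff_eq_empty] at he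
    obtain ⟨P, hP⟩ := hs
    obtain ⟨huA, hAinv, hspec⟩ := sat_spec (p := p) (T := T) (u := u)
      (fun g hg v hv => gen_fix (hle hg) v hv) hUinv huU
    set A := sat (gen p G T') (cls p G T U u) U
    have hAU : A ⊆ U := Finset.filter_subset _ _
    have hb' : (cls p G T U u).card = b := le_antisymm
      ((Finset.card_le_card (Finset.filter_subset_filter _ Finset.sdiff_subset)).trans (hcls u huY).le)
      ((hcls u huY).ge.trans (Finset.card_le_card hcU))
    have h0 : ∀ v ∈ A, ¬ Fixes P v := by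
      intro v hv hPv
      obtain ⟨g, hg, hgs, -⟩ := hspec v hv
      have h1 : P ∈ syl p G (insert v T) := mem_syl_insert.2 ⟨syl_anti hsub' hP, hPv⟩
      rw [hgs, Finset.mem_image] at h1
      obtain ⟨R, hR, hRP⟩ := h1
      have h2 : R ∈ syl p G (insert u T') := by
        refine mem_syl_insert.2 ⟨?_, (mem_syl_insert.1 hR).2⟩
        rw [← inv_smul_smul g R, hRP]
        exact smul_mem_syl (fun w hw => gen_fix (inv_mem hg) w hw) hP
      simp [he] at h2
    -- `P` permutes the classes without fixed points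
    let 𝒮 := A.image fun v => syl p G (insert v T)
    have hcard : A.card = b * 𝒮.card := by
      rw [Finset.card_eq_sum_card_image (fun v => syl p G (insert v T)) A,
        Finset.sum_const_nat (m := b), mul_comm]
      intro S hS
      obtain ⟨v, hv, rfl⟩ := Finset.mem_image.1 hS
      obtain ⟨g, -, -, hc⟩ := hspec v hv
      exact hc.trans hb'
    have hPA : ∀ g ∈ (P : Subgroup G), ∀ S ∈ 𝒮, S.image (fun Q => g • Q) ∈ 𝒮 := by
      intro g hg S hS
      obtain ⟨v, hv, rfl⟩ := Finset.mem_image.1 hS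
      exact Finset.mem_image.2 ⟨g • v, hAinv g (le_gen hP hg) v hv,
        syl_insert_smul (fun w hw => gen_fix (le_gen (syl_anti hsub' hP) hg) w hw) v⟩
    letI : MulAction (P : Subgroup G) 𝒮 :=
      { smul := fun g S => ⟨(S : Finset (Sylow p G)).image fun Q => (g : G) • Q, hPA g g.2 S S.2⟩
        one_smul := fun S => Subtype.ext
          (show (S : Finset (Sylow p G)).image (fun Q => (1 : G) • Q) = S by simp)
        mul_smul := fun g h S => Subtype.ext
          (show (S : Finset (Sylow p G)).image (fun Q => ((g : G) * h) • Q) =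
            ((S : Finset (Sylow p G)).image fun Q => (h : G) • Q).image fun Q => (g : G) • Q by
            simp [Finset.image_image, Function.comp_def, mul_smul]) }
    have hdvd : p ∣ Nat.card 𝒮 := by
      have h := P.2.card_modEq_card_fixedPoints 𝒮
      haveI : IsEmpty (MulAction.fixedPoints (P : Subgroup G) 𝒮) := ⟨fun S => by
        obtain ⟨v, hv, hvS⟩ := Finset.mem_image.1 S.1.2
        set S₀ := syl p G (insert v T) with hS₀
        -- the stabiliser of the class
        let H : Subgroup G := MulAction.stabilizer G (S₀ : Set (Sylow p G))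
        have hPH : (P : Subgroup G) ≤ H := by
          intro g hg
          have := congrArg Subtype.val (S.2 ⟨g, hg⟩)
          show g • (S₀ : Set (Sylow p G)) = S₀
          rw [hvS]
          have h5 : (S.1 : Finset (Sylow p G)).image (fun Q => g • Q) = S.1 := this
          exact_mod_cast (congrArg (fun F : Finset (Sylow p G) => (F : Set (Sylow p G))) h5)
        obtain ⟨g, -, hgs, -⟩ := hspec v hv
        obtain ⟨R, hR⟩ : S₀.Nonempty := by rw [hS₀, hgs]; exact hgood.image _
        have hRH : (R : Subgroup G) ≤ H := by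
          intro x hx
          have hxT : ∀ w ∈ insert v T, x • w = w := fun w hw => mem_syl.1 hR w hw x hx
          show x • (S₀ : Set (Sylow p G)) = S₀
          ext Q
          rw [Set.mem_smul_set_iff_inv_smul_mem, Finset.mem_coe, Finset.mem_coe]
          constructor
          · intro hQ
            simpa using smul_mem_syl hxT hQ
          · intro hQ
            exact smul_mem_syl (fun w hw => inv_smul_eq_iff.2 (hxT w hw).symm) hQ
        obtain ⟨k, hk⟩ := Sylow.isPretransitive_of_finite.exists_smul_eq (R.subtype hRH) (P.subtype hPH)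
        rw [Sylow.smul_subtype] at hk
        have hkP : (k : G) • R = P := Sylow.subtype_injective hk
        have h6 : (k : G) • R ∈ (k : G) • (S₀ : Set (Sylow p G)) :=
          Set.smul_mem_smul_set (Finset.mem_coe.2 hR)
        rw [show (k : G) • (S₀ : Set (Sylow p G)) = S₀ from k.2, hkP, Finset.mem_coe] at h6
        exact h0 v hv (mem_syl_insert.1 h6).2⟩
      rw [Nat.card_of_isEmpty (α := MulAction.fixedPoints _ 𝒮)] at h
      exact Nat.modEq_zero_iff_dvd.1 h
    rw [Nat.card_eq_fintype_card, Fintype.card_coe] at hdvd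
    have hpos : 0 < 𝒮.card := (Finset.image_nonempty.2 ⟨u, huA⟩).card_pos
    have hge : p ≤ 𝒮.card := Nat.le_of_dvd hpos hdvd
    have hz : fixIn P A = 0 := by
      rw [fixIn, Finset.card_eq_zero, Finset.filter_eq_empty_iff]
      exact fun v hv => h0 v hv
    have h1 := hsplit A hAU hAinv P hP
    rw [hcard, hz, mul_zero, zero_add] at h1
    have h2 : (p - 1) * (b * p) ≤ p * (i + 1) * b :=
      (Nat.mul_le_mul_left _ (Nat.mul_le_mul_left b hge)).trans h1
    have h3 : p - 1 ≤ i + 1 :=
      Nat.le_of_mul_le_mul_right (by linarith : (p - 1) * (b * p) ≤ (i + 1) * (b * p))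
        (Nat.mul_pos hb hp.pos)
    omega
  obtain ⟨huA, hAinv, hspec⟩ := sat_spec (p := p) (T := T') (u := u) (fun g hg => gen_fix hg) hUinv huU
  set A := sat (gen p G T') (cls p G T' U u) U
  have hAU : A ⊆ U := Finset.filter_subset _ _
  refine ⟨hne, Or.inr ⟨A, (cls p G T' U u).card, huA, hAinv, hUmoved A hAU, ?_,
    fun v hv => ?_, fun v hv => ?_, fun P hP => ?_⟩⟩
  · exact Finset.card_pos.2 ⟨u, Finset.mem_filter.2 ⟨huU, rfl⟩⟩
  · obtain ⟨g, -, -, h⟩ := hspec v hv
    exact h
  · obtain ⟨g, -, h, -⟩ := hspec v hv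
    rw [h, Finset.card_image_of_injective _ (MulAction.injective g)]
  · refine (hsplit A hAU hAinv P hP).trans (Nat.add_le_add_left (Nat.mul_le_mul_left _ ?_) _)
    rw [← hcls u huY]
    refine (Finset.card_le_card hcU).trans (Finset.card_le_card fun w hw => ?_)
    obtain ⟨hwU, hws⟩ := Finset.mem_filter.1 hw
    refine Finset.mem_filter.2 ⟨hwU, ?_⟩
    ext Q
    have h1 := Finset.ext_iff.1 hws Q
    simp only [mem_syl_insert, hT'] at h1 ⊢
    tauto

theorem exists_common {a : Ω} (hsub : SubBound G p a) :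
    ∀ (j : ℕ) (R T : Finset Ω) (i : ℕ), R.card = j → a ∈ T → (syl p G T).Nonempty →
      (∀ u ∈ R, Data G p T i u) → i + j ≤ p - 1 → ∃ P ∈ syl p G T, ∀ v ∈ R, Fixes P v := by
  intro j
  induction j using Nat.strong_induction_on with
  | _ j ih =>
    intro R T i hR ha hT hd hij
    rcases R.eq_empty_or_nonempty with rfl | hne
    · obtain ⟨P, hP⟩ := hT
      exact ⟨P, hP, fun v hv => absurd hv (Finset.notMem_empty v)⟩
    obtain ⟨s, hs, hmax⟩ := R.exists_max_image (fun v => (syl p G (insert v T)).card) hne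
    have hcard : (R.erase s).card = j - 1 := by rw [Finset.card_erase_of_mem hs, hR]
    have hj : 0 < j := hR ▸ hne.card_pos
    by_cases h1 : R.erase s = ∅
    · obtain ⟨P, hP⟩ := (hd s hs).1
      refine ⟨P, (mem_syl_insert.1 hP).1, fun v hv => ?_⟩
      have : v = s := by
        by_contra hne'
        exact Finset.notMem_empty v (h1 ▸ Finset.mem_erase.2 ⟨hne', hv⟩)
      rw [this]
      exact (mem_syl_insert.1 hP).2
    have hj2 : 0 < j - 1 := hcard ▸ (Finset.nonempty_iff_ne_empty.2 h1).card_pos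
    obtain ⟨P, hP, hPR⟩ := ih (j - 1) (by omega) (R.erase s) (insert s T) (i + 1) hcard
      (Finset.mem_insert_of_mem ha) (hd s hs).1
      (fun u hu => data_step hsub ha (hd s hs).1 (hmax u (Finset.mem_of_mem_erase hu)) (by omega)
        (hd u (Finset.mem_of_mem_erase hu))) (by omega)
    refine ⟨P, (mem_syl_insert.1 hP).1, fun v hv => ?_⟩
    rcases eq_or_ne v s with rfl | hvs
    · exact (mem_syl_insert.1 hP).2
    · exact hPR v (Finset.mem_erase.2 ⟨hvs, hv⟩)

/-- An orbit of an element of order `p` has no common fixing Sylow subgroup. -/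
theorem not_common {x : G} (hxp : ∀ v : Ω, x ^ p • v = v) {c : Ω} (hxc : x • c ≠ c)
    (Q : Sylow p G) : ¬ ∀ j < p, Fixes Q (x ^ j • c) := by
  intro hQ
  have hp : p.Prime := Fact.out
  let S : Set Ω := Set.range fun j : ℕ => x ^ j • c
  have hper : ∀ j : ℕ, x ^ j • c = x ^ (j % p) • c := fun j => by
    have hfix : ∀ q : ℕ, (x ^ p) ^ q • c = c := fun q => by
      induction q with
      | zero => rw [pow_zero, one_smul]
      | succ q ih => rw [pow_succ, mul_smul, hxp, ih]
    conv_lhs => rw [← Nat.mod_add_div j p, pow_add, mul_smul, pow_mul, hfix]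
  let K : Subgroup G := fixingSubgroup G S
  have hQK : (Q : Subgroup G) ≤ K := by
    intro g hg
    rw [mem_fixingSubgroup_iff]
    rintro _ ⟨j, rfl⟩
    show g • x ^ j • c = x ^ j • c
    rw [hper]
    exact hQ (j % p) (Nat.mod_lt _ hp.pos) g hg
  have hxS : ∀ v ∈ S, x⁻¹ • v ∈ S := by
    rintro _ ⟨j, rfl⟩
    refine ⟨j + (p - 1), ?_⟩
    show x ^ (j + (p - 1)) • c = x⁻¹ • x ^ j • c
    rw [eq_inv_smul_iff, smul_smul, ← pow_succ',
      show j + (p - 1) + 1 = j + p by have := hp.pos; omega, pow_add, mul_smul, hxp]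
  have hxS' : ∀ v ∈ S, x • v ∈ S := by
    rintro _ ⟨j, rfl⟩
    exact ⟨j + 1, show x ^ (j + 1) • c = x • x ^ j • c by rw [pow_succ', mul_smul]⟩
  have hxN : x ∈ Subgroup.normalizer (K : Set G) := by
    rw [Subgroup.mem_normalizer_iff]
    intro g
    rw [mem_fixingSubgroup_iff, mem_fixingSubgroup_iff]
    constructor
    · intro h v hv
      rw [mul_smul, mul_smul, h _ (hxS v hv), smul_inv_smul]
    · intro h v hv
      have := h _ (hxS' v hv)
      rw [mul_smul, mul_smul, inv_smul_smul] at this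
      exact smul_left_cancel x this
  set H := K ⊔ Subgroup.zpowers x with hH
  have hle : H ≤ Subgroup.normalizer (K : Set G) :=
    sup_le Subgroup.le_normalizer (Subgroup.zpowers_le.2 hxN)
  haveI : (K.subgroupOf H).Normal := by
    rw [Subgroup.normal_subgroupOf_iff_le_normalizer le_sup_left]
    exact hle
  have hxH : x ∈ H := Subgroup.mem_sup_right (Subgroup.mem_zpowers x)
  have hord : orderOf ((⟨x, hxH⟩ : H) : H ⧸ K.subgroupOf H) = p := by
    refine orderOf_eq_prime ?_ fun e => ?_
    · rw [← QuotientGroup.mk_pow, QuotientGroup.eq_one_iff, Subgroup.mem_subgroupOf,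
        Subgroup.coe_pow, mem_fixingSubgroup_iff]
      exact fun v _ => hxp v
    · rw [QuotientGroup.eq_one_iff, Subgroup.mem_subgroupOf, mem_fixingSubgroup_iff] at e
      exact hxc (e c ⟨0, by simp⟩)
  have hdvd : p ∣ K.relIndex H := hord ▸ orderOf_dvd_natCard _
  refine Q.not_dvd_index (hdvd.trans ?_)
  have h1 : K.index ∣ (Q : Subgroup G).index := Subgroup.index_dvd_of_le hQK
  exact (Dvd.intro _ (Subgroup.relIndex_mul_index le_sup_left)).trans h1

/-- The bound cannot be attained below every point. -/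
theorem not_tight (hsub : ∀ a : Ω, SubBound G p a) (htight : ∀ a : Ω, Tight G p a)
    (hne : ∀ a : Ω, (syl p G ({a} : Finset Ω)).Nonempty) {x : G} (hxp : ∀ v : Ω, x ^ p • v = v)
    {c : Ω} : x • c = c := by
  by_contra hxc
  have hp : p.Prime := Fact.out
  set R := (Finset.Ico 1 p).image fun j => x ^ j • c with hR
  obtain ⟨P, hP, hPR⟩ := exists_common (hsub c) R.card R {c} 0 rfl (Finset.mem_singleton_self c)
    (hne c) (fun u _ => data_base (htight c) (hne c) u)
    (by rw [zero_add, hR]; exact Finset.card_image_le.trans (by simp))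
  refine not_common hxp hxc P fun j hj => ?_
  rcases Nat.eq_zero_or_pos j with rfl | hj0
  · rw [pow_zero, one_smul]
    exact mem_syl.1 hP c (Finset.mem_singleton_self c)
  · exact hPR _ (Finset.mem_image.2 ⟨j, Finset.mem_Ico.2 ⟨hj0, hj⟩, rfl⟩)

end Cfsg.Agent.Lib.SylowFix
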